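set_option autoImplicit false
namespace Cfsg.Agent.Lib.Helper6.TCD.HS100a
noncomputable def P0 (i : Nat) : Nat := Nat.land (Nat.shiftRight 0x35390d5868242a013de1d5aff0342e918b7b5892c5707835d1e4e603be280baacd4c595700e4ba089f54604a8b3221eb95777080236326d210db0de0b2ac394f8c6bda6116098cc97a98e2cca61d08a235d24f9688a20db (Nat.mul 7 (Nat.land i 127))) 127
end Cfsg.Agent.Lib.Helper6.TCD.HS100a
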