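set_option autoImplicit false
namespace Cfsg.Agent.Lib.Helper6.TCD.HS100a
noncomputable def P2 (i : Nat) : Nat := Nat.land (Nat.shiftRight 0x684c59f9f399cdbc1a089c084692a57cec246e2e376b5488e502a8202a69499a9331b9796deb67cea5bb000ec055b0d7c9a29559bb5147813d8ab048f4ece1ae603a664c2514451162454597468041888385c13f4f2065d (Nat.mul 7 (Nat.land i 127))) 127
end Cfsg.Agent.Lib.Helper6.TCD.HS100a
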