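set_option autoImplicit false
namespace Cfsg.Agent.Lib.Helper6.TCD.HS100a
noncomputable def P3 (i : Nat) : Nat := Nat.land (Nat.shiftRight 0x7a88e57a56c04d749ceb1368653f3d4d5c5bf7ae3e6a556023e313125d42c8b08ddcbb68d9e4e98e25e3ba5c4965a35791523e0c706615109e4eb44c08e887510a01a0c3a194c55248a4b22a81c31ac0833698206415233 (Nat.mul 7 (Nat.land i 127))) 127
end Cfsg.Agent.Lib.Helper6.TCD.HS100a
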