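set_option autoImplicit false
namespace Cfsg.Agent.Lib.Helper6.TCD.HS100a
noncomputable def P4 (i : Nat) : Nat := Nat.land (Nat.shiftRight 0xbb8ab55bf731de013ecd1af87054a74ac50b539d4c707831a1e4e28186281a542d59bc7735ccb6ed9f347a1ce982249695568068536320241089faa052989c4f208302e596148cb97998e394a617084a36525404827e25b (Nat.mul 7 (Nat.land i 127))) 127
end Cfsg.Agent.Lib.Helper6.TCD.HS100a
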