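import Cfsg.Agent.Lib.Helper6.TCD.HS100a.P0
import Cfsg.Agent.Lib.Helper6.TCD.HS100a.P1
import Cfsg.Agent.Lib.Helper6.TCD.HS100a.P2
import Cfsg.Agent.Lib.Helper6.TCD.HS100a.P3
import Cfsg.Agent.Lib.Helper6.TCD.HS100a.P4
set_option autoImplicit false
namespace Cfsg.Agent.Lib.Helper6.TCD.HS100a
def ncol : Nat := 5
def INV : Nat := 271105
def N : Nat := 100
noncomputable def px (c p : Nat) : Nat := Nat.rec (motive := fun _ => Nat) (P0 p) (fun k0 _ => Nat.rec (motive := fun _ => Nat) (P1 p) (fun k1 _ => Nat.rec (motive := fun _ => Nat) (P2 p) (fun k2 _ => Nat.rec (motive := fun _ => Nat) (P3 p) (fun k3 _ => P4 p) k2) k1) k0) c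
end Cfsg.Agent.Lib.Helper6.TCD.HS100a
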